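import Groth.Agent.Flat2B.FibKer
import Mathlib.LinearAlgebra.TensorProduct.Finiteness
import Mathlib.RingTheory.Noetherian.Basic

/-!
# Associated primes (annihilators of elements) of fibre modules and tensor products

Elementary lemmas on `FlatCA.ass`: behaviour under injective maps, exact sequences, and comparison of
`ass S (N/pN)` with `ass S (N ⊗ κ(p))`.
-/

set_option autoImplicit false
universe u

namespace K78.AssFib

open TensorProduct Groth.Agent.Flat2B.FibKer Groth.Agent.Flat2A.FiberAss Groth.Agent.Flat2A.Fiber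

section Basic

variable {S : Type u} [CommRing S] {M M' M'' : Type*} [AddCommGroup M] [Module S M]
  [AddCommGroup M'] [Module S M'] [AddCommGroup M''] [Module S M'']

theorem mem_ass_iff {q : Ideal S} : q ∈ FlatCA.ass S M ↔ q.IsPrime ∧ ∃ m : M, ∀ s : S, s ∈ q ↔ s • m = 0 := by
  constructor
  · rintro ⟨hq, m, hm⟩
    exact ⟨hq, m, fun s => by rw [hm, Submodule.mem_annihilator_span_singleton]⟩
  · rintro ⟨hq, m, hm⟩
    exact ⟨hq, m, by ext s; rw [hm, Submodule.mem_annihilator_span_singleton]⟩

theorem ass_subset_of_injective (f : M →ₗ[S] M') (hf : Function.Injective f) :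
    FlatCA.ass S M ⊆ FlatCA.ass S M' := by
  intro q hq
  rw [mem_ass_iff] at hq ⊢
  obtain ⟨hq, m, hm⟩ := hq
  refine ⟨hq, f m, fun s => ?_⟩
  rw [hm, ← map_smul, map_eq_zero_iff f hf]

theorem ass_eq_of_equiv (e : M ≃ₗ[S] M') : FlatCA.ass S M = FlatCA.ass S M' :=
  Set.Subset.antisymm (ass_subset_of_injective e.toLinearMap e.injective)
    (ass_subset_of_injective e.symm.toLinearMap e.symm.injective)

theorem ass_subset_union (f : M →ₗ[S] M') (g : M' →ₗ[S] M'') (hf : Function.Injective f)
    (h : Function.Exact f g) : FlatCA.ass S M' ⊆ FlatCA.ass S M ∪ FlatCA.ass S M'' := by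
  intro q hq
  rw [mem_ass_iff] at hq
  obtain ⟨hq, m, hm⟩ := hq
  by_cases hcase : ∃ s : S, s ∉ q ∧ g (s • m) = 0
  · left
    obtain ⟨s, hs, hgs⟩ := hcase
    obtain ⟨x, hx⟩ := (h _).mp hgs
    rw [mem_ass_iff]
    refine ⟨hq, x, fun t => ?_⟩
    rw [← map_eq_zero_iff f hf, map_smul, hx, smul_smul, ← hm]
    exact ⟨fun ht => Ideal.mul_mem_right _ _ ht, fun ht => (hq.mem_or_mem ht).resolve_right hs⟩
  · right
    push Not at hcase
    rw [mem_ass_iff]
    refine ⟨hq, g m, fun t => ?_⟩
    rw [← map_smul]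
    constructor
    · intro ht
      rw [(hm t).mp ht, map_zero]
    · intro ht
      by_contra hcon
      exact hcase t hcon ht

end Basic

section Fib

variable {R S : Type u} [CommRing R] [CommRing S] [Algebra R S] (p : Ideal R) [p.IsPrime]
  (N : Type u) [AddCommGroup N] [Module S N] [Module R N] [IsScalarTower R S N]

omit [p.IsPrime] in
/-- `pS · N = pN`. -/
theorem mem_map_smul_top_iff (x : N) :
    x ∈ ((p.map (algebraMap R S)) • (⊤ : Submodule S N)) ↔ x ∈ (p • (⊤ : Submodule R N)) := by
  rw [← Submodule.restrictScalars_mem R, ← Submodule.restrictScalars_top R S N,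
    Ideal.smul_restrictScalars]

/-- Every element of the fibre module is, up to an element outside `p`, in the image of `N`. -/
theorem exists_smul_eq_toFiberMod (x : FlatCA.fiberMod p S N) :
    ∃ r : R, r ∉ p ∧ ∃ n : N, (algebraMap R S r) • x = FlatCA.toFiberMod p S N n := by
  obtain ⟨y, rfl⟩ := (fiberModEquiv p N).symm.surjective x
  suffices h : ∃ r : R, r ∉ p ∧ ∃ n : N, (algebraMap R S r) • y = n ⊗ₜ[R] (1 : p.ResidueField) by
    obtain ⟨r, hr, n, hn⟩ := h
    refine ⟨r, hr, n, ?_⟩
    rw [← map_smul, hn, ← fiberModEquiv_toFiberMod (S := S) p N, LinearEquiv.symm_apply_apply]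
  induction y using TensorProduct.induction_on with
  | zero => exact ⟨1, p.one_notMem, 0, by simp⟩
  | tmul n c =>
    obtain ⟨a, b, hb, hab⟩ : ∃ a b : R, b ∉ p ∧ (algebraMap R p.ResidueField b) * c = algebraMap R p.ResidueField a := by
      obtain ⟨a, b, hb, rfl⟩ := IsFractionRing.div_surjective (A := R ⧸ p) c
      obtain ⟨a, rfl⟩ := Ideal.Quotient.mk_surjective a
      obtain ⟨b, rfl⟩ := Ideal.Quotient.mk_surjective b
      have hb' : b ∉ p := fun h => nonZeroDivisors.ne_zero hb (Ideal.Quotient.eq_zero_iff_mem.mpr h)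
      refine ⟨a, b, hb', ?_⟩
      have h1 : algebraMap R p.ResidueField b ≠ 0 := fun h0 => hb' (by simpa using h0)
      have h2 : ∀ r : R, algebraMap (R ⧸ p) p.ResidueField (Ideal.Quotient.mk p r) = algebraMap R p.ResidueField r :=
        fun r => rfl
      rw [h2, h2, mul_div_cancel₀ _ h1]
    refine ⟨b, hb, a • n, ?_⟩
    rw [algebraMap_smul, TensorProduct.smul_tmul', TensorProduct.smul_tmul, Algebra.smul_def, hab,
      Algebra.algebraMap_eq_smul_one, TensorProduct.tmul_smul, TensorProduct.smul_tmul']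
  | add y z hy hz =>
    obtain ⟨r, hr, n, hn⟩ := hy
    obtain ⟨r', hr', n', hn'⟩ := hz
    refine ⟨r * r', fun h => (‹p.IsPrime›.mem_or_mem h).elim hr hr', r' • n + r • n', ?_⟩
    rw [map_mul, smul_add, mul_smul, smul_comm, hn, mul_smul, hn', TensorProduct.add_tmul]
    congr 1
    · rw [algebraMap_smul, TensorProduct.smul_tmul']
    · rw [algebraMap_smul, TensorProduct.smul_tmul']

/-- Elements outside `p` act injectively on the fibre module. -/
theorem smul_eq_zero_iff {r : R} (hr : r ∉ p) (x : FlatCA.fiberMod p S N) :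
    (algebraMap R S r) • x = 0 ↔ x = 0 := by
  constructor
  · intro h
    have h1 : algebraMap R p.ResidueField r ≠ 0 := fun h0 => hr (by simpa using h0)
    rw [smul_fiberMod] at h
    have h2 : toFiber p S (algebraMap R S r) = algebraMap p.ResidueField (p.Fiber S) (algebraMap R p.ResidueField r) := by
      rw [← IsScalarTower.algebraMap_apply]
      exact (Algebra.TensorProduct.includeRight (R := R) (A := p.ResidueField) (B := S)).commutes r
    rw [h2] at h
    have h3 : IsUnit (algebraMap p.ResidueField (p.Fiber S) (algebraMap R p.ResidueField r)) :=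
      (IsUnit.mk0 _ h1).map _
    exact (h3.smul_eq_zero).mp h
  · rintro rfl
    rw [smul_zero]

/-- An associated prime of the fibre module is the annihilator of the image of an element of `N`. -/
theorem exists_toFiberMod_of_mem_ass {q : Ideal S} (hq : q ∈ FlatCA.ass S (FlatCA.fiberMod p S N)) :
    ∃ n : N, ∀ s : S, s ∈ q ↔ s • FlatCA.toFiberMod p S N n = 0 := by
  rw [mem_ass_iff] at hq
  obtain ⟨hq, x, hx⟩ := hq
  obtain ⟨r, hr, n, hn⟩ := exists_smul_eq_toFiberMod p N x
  refine ⟨n, fun s => ?_⟩
  rw [← hn, smul_comm, smul_eq_zero_iff p N hr, hx]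

/-- The annihilator of the image of `n` in the fibre module. -/
theorem smul_toFiberMod_eq_zero_iff (s : S) (n : N) :
    s • FlatCA.toFiberMod p S N n = 0 ↔
      ∃ r : R, r ∉ p ∧ (algebraMap R S r * s) • n ∈ ((p.map (algebraMap R S)) • (⊤ : Submodule S N)) := by
  rw [← map_smul, toFiberMod_eq_zero_iff]
  refine exists_congr fun r => and_congr_right fun _ => ?_
  rw [mem_map_smul_top_iff, mul_smul, algebraMap_smul]

end Fib

end K78.AssFib
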