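import Groth.Agent.CAlg.K78.AssFib
import Mathlib.RingTheory.Flat.Basic
import Mathlib.LinearAlgebra.TensorProduct.Quotient

/-!
# Associated primes of `N/pN` and of the fibre `N ⊗ κ(p)` for `N` flat
-/

set_option autoImplicit false
universe u

namespace K78.AssFib2

open TensorProduct Groth.Agent.Flat2B.FibKer K78.AssFib

variable {R S : Type u} [CommRing R] [CommRing S] [Algebra R S] (p : Ideal R) [p.IsPrime]
  (N : Type u) [AddCommGroup N] [Module S N] [Module R N] [IsScalarTower R S N]

theorem mem_smul_top_iff_tmul (n : N) :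
    n ∈ (p • (⊤ : Submodule R N)) ↔ n ⊗ₜ[R] (1 : R ⧸ p) = 0 := by
  rw [← (TensorProduct.tensorQuotEquivQuotSMul N p).map_eq_zero_iff]
  have h : TensorProduct.tensorQuotEquivQuotSMul N p (n ⊗ₜ[R] (1 : R ⧸ p)) = Submodule.Quotient.mk n := by
    have := TensorProduct.tensorQuotEquivQuotSMul_tmul_mk p n (1 : R)
    simpa using this
  rw [h, Submodule.Quotient.mk_eq_zero]

/-- Elements outside `p` are nonzerodivisors on `N/pN` for `N` flat. -/
theorem mem_of_smul_mem [Module.Flat R N] {r : R} (hr : r ∉ p) {n : N}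
    (h : r • n ∈ (p • (⊤ : Submodule R N))) : n ∈ (p • (⊤ : Submodule R N)) := by
  rw [mem_smul_top_iff_tmul] at h ⊢
  let u : (R ⧸ p) →ₗ[R] (R ⧸ p) := LinearMap.lsmul R (R ⧸ p) r
  have hu : Function.Injective u := by
    rw [injective_iff_map_eq_zero]
    intro x hx
    obtain ⟨x, rfl⟩ := Ideal.Quotient.mk_surjective x
    have h1 : Ideal.Quotient.mk p (r * x) = 0 := hx
    rw [Ideal.Quotient.eq_zero_iff_mem] at h1 ⊢
    exact (‹p.IsPrime›.mem_or_mem h1).resolve_left hr
  have h2 : Function.Injective (u.lTensor N) := Module.Flat.lTensor_preserves_injective_linearMap u hu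
  apply h2
  rw [map_zero, LinearMap.lTensor_tmul]
  change n ⊗ₜ[R] (r • (1 : R ⧸ p)) = 0
  rw [TensorProduct.tmul_smul, TensorProduct.smul_tmul', h]

/-- For `q` associated to `N/pN` and `N` flat over `R`, `q` lies over `p`. -/
theorem comap_eq_of_mem_ass [Module.Flat R N] {q : Ideal S}
    (h : q ∈ FlatCA.ass S (N ⧸ (p.map (algebraMap R S)) • (⊤ : Submodule S N))) :
    q.comap (algebraMap R S) = p := by
  rw [mem_ass_iff] at h
  obtain ⟨hq, m, hm⟩ := h
  obtain ⟨n, rfl⟩ := Submodule.Quotient.mk_surjective _ m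
  ext r
  rw [Ideal.mem_comap, hm, ← Submodule.Quotient.mk_smul, Submodule.Quotient.mk_eq_zero,
    mem_map_smul_top_iff, algebraMap_smul]
  constructor
  · intro hr
    by_contra hcon
    have h1 := mem_of_smul_mem p N hcon hr
    apply hq.ne_top
    rw [Ideal.eq_top_iff_one, hm, ← Submodule.Quotient.mk_smul, Submodule.Quotient.mk_eq_zero,
      one_smul, mem_map_smul_top_iff]
    exact h1
  · intro hr
    exact Submodule.smul_mem_smul hr Submodule.mem_top

theorem ass_quotient_eq_ass_fiberMod [Module.Flat R N] :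
    FlatCA.ass S (N ⧸ (p.map (algebraMap R S)) • (⊤ : Submodule S N)) =
      FlatCA.ass S (FlatCA.fiberMod p S N) := by
  have key : ∀ (s : S) (n : N), s • FlatCA.toFiberMod p S N n = 0 ↔
      s • (Submodule.Quotient.mk n : N ⧸ (p.map (algebraMap R S)) • (⊤ : Submodule S N)) = 0 := by
    intro s n
    rw [smul_toFiberMod_eq_zero_iff, ← Submodule.Quotient.mk_smul, Submodule.Quotient.mk_eq_zero]
    constructor
    · rintro ⟨r, hr, h⟩
      rw [mem_map_smul_top_iff, mul_smul, algebraMap_smul] at h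
      rw [mem_map_smul_top_iff]
      exact mem_of_smul_mem p N hr h
    · intro h
      exact ⟨1, p.one_notMem, by rwa [map_one, one_mul]⟩
  ext q
  constructor
  · intro h
    rw [mem_ass_iff] at h ⊢
    obtain ⟨hq, m, hm⟩ := h
    obtain ⟨n, rfl⟩ := Submodule.Quotient.mk_surjective _ m
    exact ⟨hq, FlatCA.toFiberMod p S N n, fun s => by rw [hm, key]⟩
  · intro h
    obtain ⟨n, hn⟩ := exists_toFiberMod_of_mem_ass p N h
    rw [mem_ass_iff]
    exact ⟨h.1, Submodule.Quotient.mk n, fun s => by rw [hn, key]⟩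

end K78.AssFib2
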