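import Groth.Agent.CAlg.K78.AssFib2
import Mathlib.RingTheory.Ideal.AssociatedPrime.Finiteness
import Mathlib.RingTheory.TensorProduct.DirectLimitFG

/-!
# Associated primes of `N ⊗ M` and finitely generated submodules / filtrations
-/

set_option autoImplicit false
universe u

namespace K78.AssTensor

open TensorProduct K78.AssFib K78.AssFib2

variable {R S : Type u} [CommRing R] [CommRing S] [Algebra R S]
  (N : Type u) [AddCommGroup N] [Module S N] [Module R N] [IsScalarTower R S N]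

theorem lTensor_smul {P Q : Type u} [AddCommGroup P] [Module R P] [AddCommGroup Q] [Module R Q]
    (g : P →ₗ[R] Q) (s : S) (y : N ⊗[R] P) : g.lTensor N (s • y) = s • g.lTensor N y :=
  (TensorProduct.AlgebraTensorModule.lTensor S N g).map_smul s y

/-- B = B_fin, for `N` flat. -/
theorem exists_fg_of_flat [Module.Flat R N] (M : Type u) [AddCommGroup M] [Module R M]
    {q : Ideal S} (h : q ∈ FlatCA.ass S (N ⊗[R] M)) :
    ∃ M' : Submodule R M, M'.FG ∧ q ∈ FlatCA.ass S (N ⊗[R] ↥M') := by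
  rw [mem_ass_iff] at h
  obtain ⟨hq, x, hx⟩ := h
  obtain ⟨M', hfin, hM'⟩ := TensorProduct.exists_finite_submodule_right_of_setFinite {x} (Set.finite_singleton x)
  obtain ⟨y, hy⟩ := hM' (Set.mem_singleton x)
  refine ⟨M', Module.Finite.iff_fg.mp hfin, ?_⟩
  rw [mem_ass_iff]
  refine ⟨hq, y, fun s => ?_⟩
  have hinj : Function.Injective (M'.subtype.lTensor N) :=
    Module.Flat.lTensor_preserves_injective_linearMap _ M'.injective_subtype
  rw [hx, ← hy, ← map_eq_zero_iff (M'.subtype.lTensor N) hinj, lTensor_smul]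

omit [Module S N] [IsScalarTower R S N] [CommRing S] [Algebra R S] in
theorem comm_lTensor {P Q : Type u} [AddCommGroup P] [Module R P] [AddCommGroup Q] [Module R Q]
    (g : P →ₗ[R] Q) (y : N ⊗[R] P) :
    TensorProduct.comm R N Q (g.lTensor N y) = g.rTensor N (TensorProduct.comm R N P y) := by
  induction y using TensorProduct.induction_on with
  | zero => simp
  | tmul a b => rfl
  | add a b ha hb => simp only [map_add, ha, hb]

/-- A finite set of elements of `N ⊗ M₁` killed in `N ⊗ M` is killed in `N ⊗ M₂` for some f.g. `M₂ ≥ M₁`. -/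
theorem exists_fg_kill (M : Type u) [AddCommGroup M] [Module R M] (M₁ : Submodule R M) (hM₁ : M₁.FG)
    (t : Set (N ⊗[R] M₁)) (ht : t.Finite) (h0 : ∀ x ∈ t, M₁.subtype.lTensor N x = 0) :
    ∃ (M₂ : Submodule R M) (hle : M₁ ≤ M₂), M₂.FG ∧ ∀ x ∈ t, (Submodule.inclusion hle).lTensor N x = 0 := by
  induction t, ht using Set.Finite.induction_on with
  | empty => exact ⟨M₁, le_rfl, hM₁, fun x hx => hx.elim⟩
  | @insert a t _ _ ih =>
    obtain ⟨M₂, hle, hfg, hk⟩ := ih fun x hx => h0 x (Set.mem_insert_of_mem a hx)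
    obtain ⟨M₃, hle', hfg', hk'⟩ : ∃ (M₃ : Submodule R M) (hle : M₁ ≤ M₃), M₃.FG ∧
        (Submodule.inclusion hle).lTensor N a = 0 := by
      have h1 := h0 a (Set.mem_insert a t)
      rw [← (TensorProduct.comm R N M).map_eq_zero_iff, comm_lTensor] at h1
      obtain ⟨M₃, hle', hfg', h2⟩ := TensorProduct.eq_zero_of_fg_of_subtype_eq_zero hM₁ h1
      refine ⟨M₃, hle', hfg', ?_⟩
      rw [← (TensorProduct.comm R N M₃).map_eq_zero_iff, comm_lTensor, h2]
    refine ⟨M₂ ⊔ M₃, hle.trans le_sup_left, hfg.sup hfg', ?_⟩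
    intro x hx
    rcases Set.mem_insert_iff.mp hx with rfl | hx
    · have h1 : Submodule.inclusion (hle.trans le_sup_left : M₁ ≤ M₂ ⊔ M₃) =
        (Submodule.inclusion (le_sup_right : M₃ ≤ M₂ ⊔ M₃)).comp (Submodule.inclusion hle') := rfl
      rw [h1, LinearMap.lTensor_comp, LinearMap.comp_apply, hk', map_zero]
    · have h1 : Submodule.inclusion (hle.trans le_sup_left : M₁ ≤ M₂ ⊔ M₃) =
        (Submodule.inclusion (le_sup_left : M₂ ≤ M₂ ⊔ M₃)).comp (Submodule.inclusion hle) := rfl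
      rw [h1, LinearMap.lTensor_comp, LinearMap.comp_apply, hk x hx, map_zero]

/-- B = B_fin, for `S` Noetherian. -/
theorem exists_fg_of_isNoetherianRing [IsNoetherianRing S] (M : Type u) [AddCommGroup M] [Module R M]
    {q : Ideal S} (h : q ∈ FlatCA.ass S (N ⊗[R] M)) :
    ∃ M' : Submodule R M, M'.FG ∧ q ∈ FlatCA.ass S (N ⊗[R] ↥M') := by
  rw [mem_ass_iff] at h
  obtain ⟨hq, x, hx⟩ := h
  obtain ⟨M₁, hfin, hM'⟩ := TensorProduct.exists_finite_submodule_right_of_setFinite {x} (Set.finite_singleton x)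
  obtain ⟨y, hy⟩ := hM' (Set.mem_singleton x)
  obtain ⟨t, ht⟩ := (isNoetherianRing_iff_ideal_fg S).mp inferInstance q
  obtain ⟨M₂, hle, hfg, hk⟩ := exists_fg_kill N M M₁ (Module.Finite.iff_fg.mp hfin)
    ((fun s : S => s • y) '' t) (t.finite_toSet.image _) (by
      rintro _ ⟨s, hs, rfl⟩
      simp only []
      rw [lTensor_smul, hy, ← hx, ← ht]
      exact Ideal.subset_span hs)
  refine ⟨M₂, hfg, ?_⟩
  rw [mem_ass_iff]
  refine ⟨hq, (Submodule.inclusion hle).lTensor N y, fun s => ?_⟩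
  constructor
  · intro hs
    have h2 : q ≤ (Submodule.span S {(Submodule.inclusion hle).lTensor N y}).annihilator := by
      rw [← ht, Ideal.span_le]
      intro s hs
      rw [SetLike.mem_coe, Submodule.mem_annihilator_span_singleton, ← lTensor_smul]
      exact hk _ ⟨s, hs, rfl⟩
    exact Submodule.mem_annihilator_span_singleton _ _ |>.mp (h2 hs)
  · intro hs
    rw [hx, ← hy]
    have h3 : M₁.subtype = M₂.subtype.comp (Submodule.inclusion hle) := rfl
    rw [h3, LinearMap.lTensor_comp, LinearMap.comp_apply, ← lTensor_smul, hs, map_zero]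

theorem exists_tmul_one (p : Ideal R) (x : N ⊗[R] (R ⧸ p)) : ∃ n : N, x = n ⊗ₜ[R] (1 : R ⧸ p) := by
  induction x using TensorProduct.induction_on with
  | zero => exact ⟨0, by simp⟩
  | tmul n r =>
    obtain ⟨r, rfl⟩ := Ideal.Quotient.mk_surjective r
    refine ⟨r • n, ?_⟩
    rw [TensorProduct.smul_tmul, ← Algebra.algebraMap_eq_smul_one]
    rfl
  | add a b ha hb =>
    obtain ⟨m, rfl⟩ := ha
    obtain ⟨n, rfl⟩ := hb
    exact ⟨m + n, by rw [TensorProduct.add_tmul]⟩

theorem ass_tensor_quotient_subset (p : Ideal R) [p.IsPrime] : FlatCA.ass S (N ⊗[R] (R ⧸ p)) ⊆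
    FlatCA.ass S (N ⧸ (p.map (algebraMap R S)) • (⊤ : Submodule S N)) := by
  intro q h
  rw [mem_ass_iff] at h ⊢
  obtain ⟨hq, x, hx⟩ := h
  obtain ⟨n, rfl⟩ := exists_tmul_one N p x
  refine ⟨hq, Submodule.Quotient.mk n, fun s => ?_⟩
  rw [hx, ← Submodule.Quotient.mk_smul, Submodule.Quotient.mk_eq_zero, TensorProduct.smul_tmul',
    mem_map_smul_top_iff, mem_smul_top_iff_tmul]

/-- B_fin ⊆ A_fin. -/
theorem mem_of_finite [IsNoetherianRing R] [Module.Flat R N] (M : Type u) [AddCommGroup M] [Module R M]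
    [Module.Finite R M] (q : Ideal S) (h : q ∈ FlatCA.ass S (N ⊗[R] M)) :
    ∃ (p : Ideal R) (_ : p.IsPrime), q ∈ FlatCA.ass S (N ⧸ (p.map (algebraMap R S)) • (⊤ : Submodule S N)) := by
  revert h
  refine IsNoetherianRing.induction_on_isQuotientEquivQuotientPrime R ‹Module.Finite R M›
    (motive := fun M _ _ _ => q ∈ FlatCA.ass S (N ⊗[R] M) →
      ∃ (p : Ideal R) (_ : p.IsPrime), q ∈ FlatCA.ass S (N ⧸ (p.map (algebraMap R S)) • (⊤ : Submodule S N))) ?_ ?_ ?_
  · intro M _ _ _ _ h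
    exfalso
    rw [mem_ass_iff] at h
    obtain ⟨hq, x, hx⟩ := h
    apply hq.ne_top
    rw [Ideal.eq_top_iff_one, hx]
    exact Subsingleton.elim _ _
  · intro M _ _ _ p e h
    refine ⟨p.asIdeal, p.isPrime, ?_⟩
    let e1 : N ⊗[R] M ≃ₗ[S] N ⊗[R] (R ⧸ p.asIdeal) :=
      TensorProduct.AlgebraTensorModule.congr (LinearEquiv.refl S N) e
    rw [ass_eq_of_equiv e1] at h
    exact ass_tensor_quotient_subset N p.asIdeal h
  · intro M₁ _ _ _ M₂ _ _ _ M₃ _ _ _ f g hf hg hfg h1 h3 h
    have h4 := ass_subset_union (S := S)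
      (TensorProduct.AlgebraTensorModule.lTensor S N f) (TensorProduct.AlgebraTensorModule.lTensor S N g)
      (Module.Flat.lTensor_preserves_injective_linearMap f hf) (lTensor_exact N hfg hg) h
    rcases h4 with h4 | h4
    · exact h1 h4
    · exact h3 h4

end K78.AssTensor
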