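import Groth.Agent.CAlg.K78.NumPoly
import Mathlib.Analysis.Polynomial.Basic
import Mathlib.Analysis.Normed.Field.Lemmas
import Mathlib.Topology.Instances.Rat
import Mathlib.RingTheory.Polynomial.Pochhammer

/-!
# Degree bounds for Hilbert polynomials

* `K78.HilbDeg.degree_lt_of_le`: if `|P n| ≤ |Q n|` for all large `n` and `deg Q < e` then
  `deg P < e`.
* `K78.HilbDeg.exists_poly`: `∑ C(n, i) c i` is the value at `n` of a rational polynomial.
* `K78.HilbDeg.exists_poly_choose_sub`: `C(n+e, e) - C(n-m+e, e)` is, for `n ≥ m`, a polynomial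
  in `n` of degree `< e`.
-/

set_option autoImplicit false
universe u

open Polynomial Filter

namespace K78.HilbDeg

theorem degree_lt_of_le {P Q : ℚ[X]} {e : ℕ} (hQ : Q.degree < (e : WithBot ℕ)) {N : ℕ}
    (h : ∀ n : ℕ, N ≤ n → |P.eval (n : ℚ)| ≤ |Q.eval (n : ℚ)|) : P.degree < (e : WithBot ℕ) := by
  by_contra hP
  rw [not_lt] at hP
  have hQP : Q.degree < P.degree := lt_of_lt_of_le hQ hP
  have hP0 : P ≠ 0 := by
    rintro rfl
    rw [degree_zero, le_bot_iff] at hP
    exact WithBot.coe_ne_bot hP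
  have h1 := (div_tendsto_atTop_zero_of_degree_lt Q P hQP).comp
    (tendsto_natCast_atTop_atTop (R := ℚ))
  have h2 := (eventually_atTop_not_isRoot P hP0)
  have h2' := (tendsto_natCast_atTop_atTop (R := ℚ)).eventually h2
  have h3 := h1.eventually (Metric.ball_mem_nhds (0 : ℚ) one_pos)
  obtain ⟨n, ⟨h4, h5⟩, h6⟩ := ((h3.and h2').and (eventually_ge_atTop N)).exists
  have h7 : |Q.eval (n : ℚ) / P.eval (n : ℚ)| < 1 := by
    have : dist (Q.eval (n : ℚ) / P.eval (n : ℚ)) 0 < 1 := h4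
    rw [Rat.dist_eq] at this
    simp only [Rat.cast_zero, sub_zero] at this
    exact_mod_cast this
  rw [abs_div, div_lt_one (abs_pos.2 h5)] at h7
  exact absurd (h n h6) (not_le.2 h7)

theorem exists_poly (r : ℕ) (c : Fin r → ℤ) :
    ∃ P : ℚ[X], ∀ n : ℕ, P.eval (n : ℚ) = ((∑ i : Fin r, ((n.choose (i : ℕ) : ℕ) : ℤ) * c i : ℤ) : ℚ) := by
  refine ⟨∑ i : Fin r, C ((c i : ℚ) / (Nat.factorial i : ℚ)) * descPochhammer ℚ i, fun n => ?_⟩
  rw [eval_finsetSum]
  push_cast
  refine Finset.sum_congr rfl fun i _ => ?_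
  rw [eval_mul, eval_C, Nat.cast_choose_eq_descPochhammer_div ℚ n i]
  ring

theorem exists_poly_choose_sub (e m : ℕ) :
    ∃ Q : ℚ[X], Q.degree < (e : WithBot ℕ) ∧ ∀ n : ℕ, m ≤ n →
      Q.eval (n : ℚ) = ((n + e).choose e : ℚ) - ((n - m + e).choose e : ℚ) := by
  let H : ℚ[X] := C ((1 : ℚ) / (Nat.factorial e : ℚ)) * ((descPochhammer ℚ e).comp (X + C (e : ℚ)))
  have hH : ∀ n : ℕ, H.eval (n : ℚ) = ((n + e).choose e : ℚ) := by
    intro n
    simp only [H]
    rw [eval_mul, eval_C, eval_comp, eval_add, eval_X, eval_C, ← Nat.cast_add,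
      Nat.cast_choose_eq_descPochhammer_div ℚ (n + e) e]
    ring
  have hH0 : H ≠ 0 := by
    intro h
    have := hH 0
    rw [h] at this
    simp at this
  have hdeg : H.natDegree ≤ e := by
    refine (natDegree_C_mul_le _ _).trans ?_
    rw [natDegree_comp, natDegree_X_add_C, mul_one]
    exact (descPochhammer_natDegree ℚ e).le
  have hdeg' : H.degree ≤ (e : WithBot ℕ) := natDegree_le_iff_degree_le.1 hdeg
  refine ⟨H - H.comp (X - C (m : ℚ)), ?_, fun n hn => ?_⟩
  · refine lt_of_lt_of_le (degree_sub_lt_left ?_ hH0 ?_) hdeg'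
    · have h1 : (H.comp (X - C (m : ℚ))) ≠ 0 := by
        intro h
        have h2 : (H.comp (X - C (m : ℚ))).comp (X + C (m : ℚ)) = 0 := by rw [h, zero_comp]
        rw [comp_assoc] at h2
        simp at h2
        exact hH0 h2
      rw [degree_eq_natDegree hH0, degree_eq_natDegree h1, natDegree_comp, natDegree_X_sub_C,
        mul_one]
    · rw [leadingCoeff_comp (by rw [natDegree_X_sub_C]; exact one_ne_zero), leadingCoeff_X_sub_C,
        one_pow, mul_one]
  · rw [eval_sub, eval_comp, hH, eval_sub, eval_X, eval_C, ← Nat.cast_sub hn, hH]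

end K78.HilbDeg
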