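import Groth.Agent.Localalg.Matlis4
import Groth.Agent.Localalg.InjDecomp2
import Groth.Agent.InjHull.K935.Loc
import Mathlib.Algebra.Category.ModuleCat.FilteredColimits
import Mathlib.CategoryTheory.Limits.Types.Filtered
import Mathlib.CategoryTheory.Limits.Preserves.Filtered
import Mathlib.RingTheory.HopkinsLevitzki
import Mathlib.LinearAlgebra.DFinsupp

/-!
# Injective modules over Noetherian rings as unions of modules finite over Artinian algebras

* `K78.InjArt.Good A D`: the `A`-module `D` underlies a finite module over an Artinian `A`-algebra.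
* `K78.InjArt.Good.equiv`, `Good.pi`: stability.
* `K78.InjArt.exists_filtration`: an indecomposable injective module over a Noetherian ring is the
  union of an increasing sequence of good submodules.
* `K78.InjArt.isColimitOfDirected`: a directed union of submodules is a colimit.
-/

set_option autoImplicit false
universe u

open CategoryTheory CategoryTheory.Limits

namespace K78.InjArt

/-- `D` is a finite module over some Artinian `A`-algebra. -/
def Good (A : Type u) [CommRing A] (D : Type u) [AddCommGroup D] [Module A D] : Prop :=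
  ∃ (B : Type u) (_ : CommRing B) (_ : Algebra A B) (_ : IsArtinianRing B)
    (_ : Module B D) (_ : IsScalarTower A B D), Module.Finite B D

variable {A : Type u} [CommRing A]

theorem Good.equiv {D D' : Type u} [AddCommGroup D] [Module A D] [AddCommGroup D'] [Module A D']
    (h : Good A D) (e : D ≃ₗ[A] D') : Good A D' := by
  obtain ⟨B, _, _, _, _, _, hfin⟩ := h
  let iM : Module B D' :=
    { smul := fun b x => e (b • e.symm x)
      one_smul := fun x => by
        change e ((1 : B) • e.symm x) = x
        rw [one_smul, e.apply_symm_apply]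
      mul_smul := fun b c x => by
        change e ((b * c) • e.symm x) = e (b • e.symm (e (c • e.symm x)))
        rw [e.symm_apply_apply, mul_smul]
      smul_zero := fun b => by
        change e (b • e.symm 0) = 0
        rw [map_zero, smul_zero, map_zero]
      smul_add := fun b x y => by
        change e (b • e.symm (x + y)) = e (b • e.symm x) + e (b • e.symm y)
        rw [map_add, smul_add, map_add]
      add_smul := fun b c x => by
        change e ((b + c) • e.symm x) = e (b • e.symm x) + e (c • e.symm x)
        rw [add_smul, map_add]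
      zero_smul := fun x => by
        change e ((0 : B) • e.symm x) = 0
        rw [zero_smul, map_zero] }
  have hsmul : ∀ (b : B) (x : D'), b • x = e (b • e.symm x) := fun _ _ => rfl
  refine ⟨B, inferInstance, inferInstance, inferInstance, iM, ⟨fun a b x => ?_⟩, ?_⟩
  · rw [hsmul, hsmul, smul_assoc, map_smul]
  · let e' : D ≃ₗ[B] D' :=
      { e with
        map_smul' := fun b x => by
          change e (b • x) = e (b • e.symm (e x))
          rw [e.symm_apply_apply] }
    exact Module.Finite.equiv e'

theorem Good.pi {ι : Type u} [Finite ι] (D : ι → Type u) [∀ i, AddCommGroup (D i)]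
    [∀ i, Module A (D i)] (h : ∀ i, Good A (D i)) : Good A (∀ i, D i) := by
  choose B h1 h2 h3 h4 h5 h6 using h
  let iM : ∀ i, Module (∀ j, B j) (D i) := fun i => Module.compHom (D i) (Pi.evalRingHom B i)
  have hsmul : ∀ (i : ι) (b : ∀ j, B j) (x : D i), b • x = b i • x := fun _ _ _ => rfl
  have hfin : ∀ i, Module.Finite (∀ j, B j) (D i) := by
    classical
    intro i
    obtain ⟨s, hs⟩ := (h6 i).fg_top
    refine ⟨⟨s, ?_⟩⟩
    rw [Submodule.eq_top_iff']
    intro x
    have hx : x ∈ Submodule.span (B i) (s : Set (D i)) := by rw [hs]; trivial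
    induction hx using Submodule.span_induction with
    | mem x hx => exact Submodule.subset_span hx
    | zero => exact zero_mem _
    | add x y _ _ hx hy => exact add_mem hx hy
    | smul b x _ hx =>
      have : b • x = (Pi.single i b : ∀ j, B j) • x := by
        rw [hsmul, Pi.single_eq_same]
      rw [this]
      exact Submodule.smul_mem _ _ hx
  refine ⟨∀ j, B j, inferInstance, inferInstance, inferInstance, Pi.module ι D (∀ j, B j),
    ⟨fun a b x => ?_⟩, @Module.Finite.pi (∀ j, B j) _ ι D _ _ (fun i => iM i) hfin⟩
  funext i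
  change (a • b) i • x i = a • (b i • x i)
  rw [Pi.smul_apply, smul_assoc]

theorem Good.iSup {J : Type u} [AddCommGroup J] [Module A J] {ι : Type u} [Finite ι]
    (T : ι → Submodule A J) (hT : iSupIndep T) (h : ∀ i, Good A (T i)) :
    Good A ↥(⨆ i, T i) := by
  classical
  have := Fintype.ofFinite ι
  have h1 := hT.dfinsupp_lsum_injective
  rw [Submodule.iSup_eq_range_dfinsupp_lsum]
  refine (Good.equiv (Good.pi (fun i => T i) h) ?_)
  exact (DFinsupp.linearEquivFunOnFintype (R := A) (M := fun i => T i)).symm.trans
    (LinearEquiv.ofInjective _ h1)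

/-- an Artinian module over a Noetherian local `A`-algebra, killed by a power of the maximal ideal,
is good. -/
theorem good_of_local {R : Type u} [CommRing R] [IsLocalRing R] [IsNoetherianRing R] [Algebra A R]
    (D : Type u) [AddCommGroup D] [Module A D] [Module R D] [IsScalarTower A R D]
    [IsArtinian R D] (n : ℕ)
    (h : ∀ a ∈ (IsLocalRing.maximalIdeal R) ^ n, ∀ x : D, a • x = 0) : Good A D := by
  have hB : IsArtinianRing (R ⧸ (IsLocalRing.maximalIdeal R) ^ n) :=
    Groth.Agent.Localalg.Matlis.isArtinianRing_quotient_pow n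
  have htor : Module.IsTorsionBySet R D (((IsLocalRing.maximalIdeal R) ^ n : Ideal R) : Set R) :=
    fun x a => h a a.2 x
  let iM : Module (R ⧸ (IsLocalRing.maximalIdeal R) ^ n) D := htor.module
  have hsmul : ∀ (r : R) (x : D), (Ideal.Quotient.mk ((IsLocalRing.maximalIdeal R) ^ n) r) • x =
      r • x := fun r x => Module.IsTorsionBySet.mk_smul htor r x
  have hst : IsScalarTower R (R ⧸ (IsLocalRing.maximalIdeal R) ^ n) D := ⟨fun r b x => by
    obtain ⟨b, rfl⟩ := Ideal.Quotient.mk_surjective b
    rw [hsmul, ← smul_assoc, ← hsmul]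
    rfl⟩
  refine ⟨R ⧸ (IsLocalRing.maximalIdeal R) ^ n, inferInstance, inferInstance, hB, iM,
    ⟨fun a b x => ?_⟩, ?_⟩
  swap
  · have h1 : IsArtinian (R ⧸ (IsLocalRing.maximalIdeal R) ^ n) D := isArtinian_of_tower R inferInstance
    have h2 : IsNoetherian (R ⧸ (IsLocalRing.maximalIdeal R) ^ n) D :=
      IsSemiprimaryRing.isNoetherian_iff_isArtinian.2 h1
    infer_instance
  obtain ⟨b, rfl⟩ := Ideal.Quotient.mk_surjective b
  have h1 : a • (Ideal.Quotient.mk ((IsLocalRing.maximalIdeal R) ^ n)) b =
      (Ideal.Quotient.mk ((IsLocalRing.maximalIdeal R) ^ n)) (a • b) := rfl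
  rw [h1, hsmul, hsmul, smul_assoc]

/-- An indecomposable injective module over a Noetherian ring is the union of an increasing
sequence of good submodules. -/
theorem exists_filtration [IsNoetherianRing A] (E : Type u) [AddCommGroup E] [Module A E]
    (hE : InjHull.IsIndecomposable A E) (hinj : Module.Injective A E) :
    ∃ T : ℕ → Submodule A E, Monotone T ∧ (∀ x, ∃ n, x ∈ T n) ∧ ∀ n, Good A (T n) := by
  have := hE.1
  obtain ⟨p, hp, f, hf⟩ := Groth.Agent.Localalg.InjDecomp2.exists_prime_injective A E
  have hf' : InjHull.IsInjectiveHull f := by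
    refine ⟨⟨hf, fun N hN => ?_⟩, hinj⟩
    refine Groth.Agent.Localalg.InjDecomp.inf_ne_bot_of_indecomposable hE hinj N _ hN ?_
    intro h
    have h1 : f 1 ∈ LinearMap.range f := ⟨1, rfl⟩
    rw [h] at h1
    have h2 : (1 : A ⧸ p) = 0 := hf (((Submodule.mem_bot A).1 h1).trans (map_zero f).symm)
    have : Nontrivial (A ⧸ p) := Ideal.Quotient.nontrivial_iff.2 hp.ne_top
    exact one_ne_zero h2
  let R := Localization p.primeCompl
  have hRloc : IsLocalRing R := inferInstanceAs (IsLocalRing (Localization.AtPrime p))
  have hRn : IsNoetherianRing R := IsLocalization.isNoetherianRing p.primeCompl R inferInstance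
  have hdis : Disjoint (p : Set A) (p.primeCompl : Set A) :=
    Set.disjoint_left.2 fun x hx hx' => hx' hx
  have hbij := K935.Loc.mkLinearMap_bijective p.primeCompl p hf' hdis
  have hex := K935.Loc.exists_hull_localized p.primeCompl p hf'
  have hmax : p.map (algebraMap A (Localization p.primeCompl)) =
      IsLocalRing.maximalIdeal (Localization p.primeCompl) :=
    Localization.AtPrime.map_eq_maximalIdeal
  rw [hmax] at hex
  obtain ⟨g, hg⟩ := hex
  have hart : IsArtinian R (LocalizedModule p.primeCompl E) :=
    Groth.Agent.Localalg.Matlis.isArtinian_hull (f := g) hg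
  have hpt : LocCoh.IsPowerTorsion (IsLocalRing.maximalIdeal R) (LocalizedModule p.primeCompl E) :=
    Groth.Agent.Localalg.Matlis.isPowerTorsion_hull (f := g) hg
  let e : E ≃ₗ[A] LocalizedModule p.primeCompl E := LinearEquiv.ofBijective _ hbij
  let U : ℕ → Submodule R (LocalizedModule p.primeCompl E) := fun n =>
    Submodule.torsionBySet R _ (((IsLocalRing.maximalIdeal R) ^ n : Ideal R) : Set R)
  have hU : ∀ n x, x ∈ U n ↔ ∀ a ∈ (IsLocalRing.maximalIdeal R) ^ n, a • x = 0 := by
    intro n x
    simp only [U, Submodule.mem_torsionBySet_iff]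
    exact ⟨fun h a ha => h ⟨a, ha⟩, fun h a => h a a.2⟩
  refine ⟨fun n => ((U n).restrictScalars A).map (e.symm : LocalizedModule p.primeCompl E →ₗ[A] E),
    ?_, ?_, ?_⟩
  · intro m n hmn
    refine Submodule.map_mono fun x hx => ?_
    have hx' : x ∈ U m := hx
    change x ∈ U n
    rw [hU] at hx' ⊢
    exact fun a ha => hx' a (Ideal.pow_le_pow_right hmn ha)
  · intro x
    obtain ⟨n, hn⟩ := hpt (e x)
    refine ⟨n, e x, ?_, e.symm_apply_apply x⟩
    change e x ∈ U n
    rw [hU]
    exact hn
  · intro n
    have h1 : Good A (U n) := by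
      refine good_of_local (R := R) (U n) n fun a ha x => ?_
      exact Subtype.ext ((hU n x).1 x.2 a ha)
    have h2 : Good A ((U n).restrictScalars A) := h1
    exact h2.equiv (e.symm.submoduleMap ((U n).restrictScalars A))

section Colimit

variable {J : Type u} [AddCommGroup J] [Module A J] {ι : Type u} [Preorder ι]

/-- the functor attached to a monotone family of submodules. -/
noncomputable def functorOf (N : ι →o Submodule A J) : ι ⥤ ModuleCat.{u} A where
  obj i := ModuleCat.of A (N i)
  map f := ModuleCat.ofHom (Submodule.inclusion (N.monotone (leOfHom f)))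
  map_id _ := rfl
  map_comp _ _ := rfl

/-- the cocone with point the ambient module. -/
noncomputable def coconeOf (N : ι →o Submodule A J) : Cocone (functorOf N) where
  pt := ModuleCat.of A J
  ι := { app := fun i => ModuleCat.ofHom (N i).subtype
         naturality := fun _ _ _ => rfl }

/-- a directed union of submodules is a colimit. -/
noncomputable def isColimitOfDirected [IsDirected ι (· ≤ ·)] [Nonempty ι] (N : ι →o Submodule A J)
    (hN : ∀ x, ∃ i, x ∈ N i) : IsColimit (coconeOf N) :=
  isColimitOfReflects (forget (ModuleCat.{u} A)) <|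
    Types.FilteredColimit.isColimitOf' _ _ (fun x => by
      obtain ⟨i, hi⟩ := hN x
      exact ⟨i, ⟨x, hi⟩, rfl⟩) (fun i x y h => ⟨i, 𝟙 i, by
      have : x = y := Subtype.ext h
      rw [this]⟩)

end Colimit

end K78.InjArt
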