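import Groth.Agent.S3194
import Groth.Agent.FormalB.GrAlg
import Mathlib.Data.Nat.Choose.Basic

/-!
# Numerical polynomials in `K'_0(A)`

* `K78.NumPoly.IsNumPoly f`: `f n = ∑ C(n, i) • a i` for all large `n` (values in an abelian group).
* `K78.NumPoly.isNumPoly_cl`: for a graded system `(M n)` of finite modules over a Noetherian ring `B`
  (an algebra over `A` with `A → B` surjective) and finitely many commuting operators
  `M n → M (n+1)` that generate eventually, `n ↦ [M n] ∈ K'_0(A)` is a numerical polynomial.
-/

set_option autoImplicit false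
universe u

open CategoryTheory

namespace K78.NumPoly

section Group

variable {G : Type*} [AddCommGroup G]

/-- numerical polynomials with values in an abelian group (with an explicit bound for the
support). -/
def IsNumPoly (f : ℕ → G) : Prop :=
  ∃ (r : ℕ) (a : ℕ → G) (N : ℕ), (∀ i, r ≤ i → a i = 0) ∧
    ∀ n : ℕ, N ≤ n → f n = ∑ i ∈ Finset.range r, ((n.choose i : ℕ) : ℤ) • a i

theorem isNumPoly_of_eventually_zero {f : ℕ → G} (N : ℕ) (h : ∀ n, N ≤ n → f n = 0) :
    IsNumPoly f :=
  ⟨0, 0, N, fun _ _ => rfl, fun n hn => by simpa using h n hn⟩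

theorem sum_range_of_le {a : ℕ → G} {r s : ℕ} (hrs : r ≤ s) (h : ∀ i, r ≤ i → a i = 0)
    (c : ℕ → ℤ) :
    ∑ i ∈ Finset.range r, c i • a i = ∑ i ∈ Finset.range s, c i • a i := by
  refine Finset.sum_subset (Finset.range_subset_range.2 hrs) fun i _ hi => ?_
  rw [h i (by simpa using hi), smul_zero]

theorem IsNumPoly.sub {f g : ℕ → G} (hf : IsNumPoly f) (hg : IsNumPoly g) :
    IsNumPoly (fun n => f n - g n) := by
  obtain ⟨r, a, N, ha, hf⟩ := hf
  obtain ⟨s, b, N', hb, hg⟩ := hg
  refine ⟨max r s, a - b, max N N', fun i hi => ?_, fun n hn => ?_⟩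
  · rw [Pi.sub_apply, ha i (by omega), hb i (by omega), sub_zero]
  · show f n - g n = _
    rw [hf n (by omega), hg n (by omega), sum_range_of_le (le_max_left r s) ha,
      sum_range_of_le (le_max_right r s) hb, ← Finset.sum_sub_distrib]
    refine Finset.sum_congr rfl fun i _ => ?_
    rw [Pi.sub_apply, smul_sub]

theorem IsNumPoly.of_diff {f : ℕ → G} (h : IsNumPoly (fun n => f (n + 1) - f n)) :
    IsNumPoly f := by
  obtain ⟨r, a, N, ha, h⟩ := h
  let b : ℕ → G := fun i => match i with
    | 0 => f N - ∑ i ∈ Finset.range r, ((N.choose (i + 1) : ℕ) : ℤ) • a i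
    | i + 1 => a i
  refine ⟨r + 1, b, N, fun i hi => ?_, fun n hn => ?_⟩
  · obtain ⟨i, rfl⟩ := Nat.exists_eq_succ_of_ne_zero (by omega : i ≠ 0)
    exact ha i (by omega)
  · rw [Finset.sum_range_succ']
    change f n = ∑ i ∈ Finset.range r, ((n.choose (i + 1) : ℕ) : ℤ) • a i +
      ((n.choose 0 : ℕ) : ℤ) • (f N - ∑ i ∈ Finset.range r, ((N.choose (i + 1) : ℕ) : ℤ) • a i)
    rw [Nat.choose_zero_right, Nat.cast_one, one_smul]
    induction n, hn using Nat.le_induction with
    | base => abel
    | succ n hn ih =>
      have h1 : f (n + 1) = f n + ∑ i ∈ Finset.range r, ((n.choose i : ℕ) : ℤ) • a i := by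
        rw [← h n hn]
        simp only []
        abel
      rw [h1, ih]
      have h2 : ∑ i ∈ Finset.range r, (((n + 1).choose (i + 1) : ℕ) : ℤ) • a i =
          ∑ i ∈ Finset.range r, ((n.choose i : ℕ) : ℤ) • a i +
          ∑ i ∈ Finset.range r, ((n.choose (i + 1) : ℕ) : ℤ) • a i := by
        rw [← Finset.sum_add_distrib]
        refine Finset.sum_congr rfl fun i _ => ?_
        rw [Nat.choose_succ_succ, Nat.cast_add, add_smul]
      rw [h2]
      abel

theorem IsNumPoly.exists_fin {f : ℕ → G} (h : IsNumPoly f) :
    ∃ (r : ℕ) (a : Fin r → G) (N : ℕ), ∀ n : ℕ, N ≤ n →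
      f n = ∑ i : Fin r, ((n.choose (i : ℕ) : ℕ) : ℤ) • a i := by
  obtain ⟨r, a, N, _, h⟩ := h
  refine ⟨r, fun i => a i, N, fun n hn => ?_⟩
  rw [h n hn, Finset.sum_range]

end Group

section KZero

variable (A : Type u) [CommRing A]

/-- the class of a finite module in `K'_0(A)`. -/
noncomputable abbrev cl (M : Type u) [AddCommGroup M] [Module A M] :
    KZero.K0sub (fun X : ModuleCat.{u} A => Module.Finite A X) :=
  KZero.clSub (fun X : ModuleCat.{u} A => Module.Finite A X) (ModuleCat.of A M)

variable {A} {B : Type u} [CommRing B] [Algebra A B]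

theorem isNumPoly_cl_aux [IsNoetherianRing B] (hAB : Function.Surjective (algebraMap A B)) (r : ℕ) :
    ∀ (M : ℕ → Type u) [∀ n, AddCommGroup (M n)] [∀ n, Module A (M n)] [∀ n, Module B (M n)]
      [∀ n, IsScalarTower A B (M n)]
      (x : Fin r → ∀ n, M n →ₗ[B] M (n + 1))
      (_ : ∀ i j n m, x i (n + 1) (x j n m) = x j (n + 1) (x i n m))
      (_ : ∀ n, Module.Finite B (M n))
      (_ : ∃ n₀ : ℕ, ∀ n, n₀ ≤ n → (⊤ : Submodule B (M (n + 1))) ≤ ⨆ i, LinearMap.range (x i n)),
      IsNumPoly (fun n => cl A (M n)) := by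
  have hfinA : ∀ (N : Type u) [AddCommGroup N] [Module A N] [Module B N] [IsScalarTower A B N]
      [Module.Finite B N], Module.Finite A N := by
    intro N _ _ _ _ _
    have : Module.Finite A B := Module.Finite.of_surjective (Algebra.linearMap A B) hAB
    exact Module.Finite.trans B N
  induction r with
  | zero =>
    intro M _ _ _ _ x _ hfin hgen
    obtain ⟨n₀, h⟩ := hgen
    refine isNumPoly_of_eventually_zero (n₀ + 1) fun n hn => ?_
    obtain ⟨n, rfl⟩ := Nat.exists_eq_succ_of_ne_zero (by omega : n ≠ 0)
    have h1 := h n (by omega)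
    rw [iSup_of_empty, top_le_iff] at h1
    have h2 : Subsingleton (M (n + 1)) := by
      rw [← Submodule.subsingleton_iff B]
      exact ⟨fun a b => by
        have ha : a = ⊥ := le_bot_iff.1 (h1 ▸ le_top)
        have hb : b = ⊥ := le_bot_iff.1 (h1 ▸ le_top)
        rw [ha, hb]⟩
    have h3 : Module.Finite A (M (n + 1)) := hfinA _
    exact Groth.Agent.S3194.clSub_subsingleton _
  | succ r ih =>
    intro M _ _ _ _ x hcomm hfin hgen
    let y := x (Fin.last r)
    -- the kernel system
    let K : ∀ n, Submodule B (M n) := fun n => LinearMap.ker (y n)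
    have hK : ∀ i n, (K n).map (x i n) ≤ K (n + 1) := by
      rintro i n _ ⟨m, hm, rfl⟩
      have hm' : y n m = 0 := hm
      change y (n + 1) (x i n m) = 0
      rw [hcomm, hm', map_zero]
    have hKgen := Groth.Agent.FormalB.GrAlg.exists_generated_submodule x hcomm hfin hgen K hK
    let xK : Fin r → ∀ n, K n →ₗ[B] K (n + 1) := fun i n =>
      (x i.castSucc n).restrict (fun m hm => hK _ _ ⟨m, hm, rfl⟩)
    have hKp : IsNumPoly (fun n => cl A (K n)) := by
      refine ih (fun n => K n) xK ?_ ?_ ?_
      · intro i j n m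
        apply Subtype.ext
        exact hcomm _ _ _ _
      · intro n
        have := hfin n
        infer_instance
      · obtain ⟨n₀, h⟩ := hKgen
        refine ⟨n₀, fun n hn => ?_⟩
        have h1 := h n hn
        rintro ⟨m, hm⟩ -
        have h2 := h1 hm
        have h3 : (⨆ i, (K n).map (x i n)) ≤
            (⨆ i, LinearMap.range (xK i n)).map (K (n + 1)).subtype := by
          refine iSup_le fun i => ?_
          rintro _ ⟨w, hw, rfl⟩
          induction i using Fin.lastCases with
          | last =>
            have : y n w = 0 := hw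
            change y n w ∈ _
            rw [this]
            exact Submodule.zero_mem _
          | cast i =>
            refine ⟨xK i n ⟨w, hw⟩, Submodule.mem_iSup_of_mem i ⟨⟨w, hw⟩, rfl⟩, rfl⟩
        obtain ⟨m', hm', h4⟩ := h3 h2
        have h5 : m' = ⟨m, hm⟩ := Subtype.ext h4
        rw [← h5]
        exact hm'
    -- the cokernel system
    let R : ∀ n, Submodule B (M (n + 1)) := fun n => LinearMap.range (y n)
    have hR : ∀ i n, R n ≤ (R (n + 1)).comap (x i (n + 1)) := by
      rintro i n _ ⟨m, rfl⟩
      change x i (n + 1) (y n m) ∈ LinearMap.range (y (n + 1))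
      rw [hcomm]
      exact ⟨_, rfl⟩
    let xC : Fin r → ∀ n, (M (n + 1) ⧸ R n) →ₗ[B] (M (n + 1 + 1) ⧸ R (n + 1)) := fun i n =>
      (R n).mapQ (R (n + 1)) (x i.castSucc (n + 1)) (hR _ _)
    have hCp : IsNumPoly (fun n => cl A (M (n + 1) ⧸ R n)) := by
      refine ih (fun n => M (n + 1) ⧸ R n) xC ?_ ?_ ?_
      · intro i j n m
        obtain ⟨m, rfl⟩ := Submodule.Quotient.mk_surjective _ m
        simp only [xC, Submodule.mapQ_apply]
        rw [hcomm]
      · intro n
        have := hfin (n + 1)
        infer_instance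
      · obtain ⟨n₀, h⟩ := hgen
        refine ⟨n₀, fun n hn => ?_⟩
        have h1 := h (n + 1) (by omega)
        rintro m -
        obtain ⟨m, rfl⟩ := Submodule.Quotient.mk_surjective _ m
        have h2 := h1 (Submodule.mem_top (x := m))
        have h3 : (⨆ i, LinearMap.range (x i (n + 1))) ≤
            (⨆ i, LinearMap.range (xC i n)).comap (R (n + 1)).mkQ := by
          refine iSup_le fun i => ?_
          rintro _ ⟨w, rfl⟩
          induction i using Fin.lastCases with
          | last =>
            have : (R (n + 1)).mkQ (x (Fin.last r) (n + 1) w) = 0 := by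
              rw [Submodule.mkQ_apply, Submodule.Quotient.mk_eq_zero]
              exact ⟨w, rfl⟩
            rw [Submodule.mem_comap, this]
            exact Submodule.zero_mem _
          | cast i =>
            exact Submodule.mem_iSup_of_mem i ⟨(R n).mkQ w, rfl⟩
        exact h3 h2
    refine IsNumPoly.of_diff ?_
    have : (fun n => cl A (M (n + 1)) - cl A (M n)) =
        (fun n => cl A (M (n + 1) ⧸ R n) - cl A (K n)) := by
      funext n
      have := hfin n
      have := hfin (n + 1)
      have f1 : Module.Finite A (M n) := hfinA _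
      have f2 : Module.Finite A (M (n + 1)) := hfinA _
      have f3 : Module.Finite A (K n) := hfinA _
      have f4 : Module.Finite A (R n) := hfinA _
      have f5 : Module.Finite A (M (n + 1) ⧸ R n) := hfinA _
      have h1 := Groth.Agent.S3194.clSub_exact (A := A) ((K n).subtype.restrictScalars A)
        ((y n).rangeRestrict.restrictScalars A) Subtype.val_injective
        (LinearMap.surjective_rangeRestrict _) (by
          intro m
          have : Function.Exact (K n).subtype (y n).rangeRestrict := by
            rw [LinearMap.exact_iff, LinearMap.ker_rangeRestrict, Submodule.range_subtype]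
          exact this m)
      have h2 := Groth.Agent.S3194.clSub_exact (A := A) ((R n).subtype.restrictScalars A)
        ((R n).mkQ.restrictScalars A) Subtype.val_injective
        (Submodule.mkQ_surjective _) (by
          intro m
          have : Function.Exact (R n).subtype (R n).mkQ := by
            rw [LinearMap.exact_iff, Submodule.ker_mkQ, Submodule.range_subtype]
          exact this m)
      have h3 : cl A (LinearMap.range (y n)) = cl A (R n) := rfl
      change KZero.clSub _ _ - KZero.clSub _ _ = KZero.clSub _ _ - KZero.clSub _ _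
      rw [h1, h2]
      change _ + _ - (_ + cl A (LinearMap.range (y n))) = _
      rw [h3]
      change cl A (R n) + cl A (M (n + 1) ⧸ R n) - (cl A (K n) + cl A (R n)) =
        cl A (M (n + 1) ⧸ R n) - cl A (K n)
      abel
    rw [this]
    exact hCp.sub hKp

end KZero

end K78.NumPoly
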