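import Groth.Agent.Lefpen.H707.PowIdeal
import Groth.Agent.Ega41.PowComplete
import Mathlib.RingTheory.MvPowerSeries.Substitution
import Mathlib.LinearAlgebra.Matrix.NonsingularInverse

/-!
# Endomorphisms of power series rings over an arbitrary commutative ring

`bijective_of_isUnit_det`: an `R`-algebra endomorphism of `R[[X_1..X_n]]` preserving the augmentation ideal
and with invertible Jacobian at the origin is bijective.
-/

set_option autoImplicit false

namespace K78.PowAut

open MvPowerSeries

variable {R : Type*} [CommRing R] {n : ℕ}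

/-- the ideal of the variables -/
noncomputable abbrev I (R : Type*) [CommRing R] (n : ℕ) : Ideal (MvPowerSeries (Fin n) R) :=
  Ideal.span (Set.range (X : Fin n → MvPowerSeries (Fin n) R))

theorem mem_I_iff (f : MvPowerSeries (Fin n) R) : f ∈ I R n ↔ constantCoeff f = 0 := by
  have h := Groth.Agent.Lefpen.H707.PowIdeal.mem_pow_span_X_iff (R := R) (σ := Fin n) 1 f
  rw [pow_one] at h
  rw [h]
  constructor
  · intro h
    have := h 0 (by simp)
    simpa using this
  · intro h e he
    have : e = 0 := by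
      rw [← Finsupp.degree_eq_zero_iff]; omega
    subst this
    simpa using h

theorem mem_I_sq_iff (f : MvPowerSeries (Fin n) R) :
    f ∈ I R n ^ 2 ↔ constantCoeff f = 0 ∧ ∀ i, coeff (Finsupp.single i 1) f = 0 := by
  rw [Groth.Agent.Lefpen.H707.PowIdeal.mem_pow_span_X_iff (R := R) (σ := Fin n) 2 f]
  constructor
  · intro h
    refine ⟨by simpa using h 0 (by simp), fun i => h _ ?_⟩
    rw [Finsupp.degree_single]; omega
  · rintro ⟨h0, h1⟩ e he
    rcases Nat.lt_or_ge e.degree 1 with h | h
    · have : e = 0 := by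
        rw [← Finsupp.degree_eq_zero_iff]; omega
      subst this
      simpa using h0
    · have h2 : e.degree = 1 := by omega
      have h3 : (e.sum fun _ m => m) = 1 := h2
      rw [Finsupp.sum_eq_one_iff] at h3
      obtain ⟨i, rfl⟩ := h3
      exact h1 i

theorem sub_C_mem (f : MvPowerSeries (Fin n) R) : f - C (constantCoeff f) ∈ I R n := by
  rw [mem_I_iff]; simp

variable (ψ : MvPowerSeries (Fin n) R →ₐ[R] MvPowerSeries (Fin n) R)

theorem map_C (a : R) : ψ (C a) = C a := ψ.commutes a

theorem map_mem (hψ : ∀ i, ψ (X i) ∈ I R n) {f : MvPowerSeries (Fin n) R} (hf : f ∈ I R n) : ψ f ∈ I R n := by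
  refine Submodule.span_induction (p := fun f _ => ψ f ∈ I R n) ?_ ?_ ?_ ?_ hf
  · rintro _ ⟨i, rfl⟩
    exact hψ i
  · rw [map_zero]; exact zero_mem _
  · intro x y _ _ hx hy
    rw [map_add]; exact add_mem hx hy
  · intro a x _ hx
    rw [smul_eq_mul, map_mul]
    exact Ideal.mul_mem_left _ _ hx

theorem map_sub_self_mem_pow (hψ : ∀ i, ψ (X i) - X i ∈ I R n ^ 2) (k : ℕ) :
    ∀ f ∈ I R n ^ k, ψ f - f ∈ I R n ^ (k + 1) := by
  have hX : ∀ i, (X i : MvPowerSeries (Fin n) R) ∈ I R n := fun i => Ideal.subset_span ⟨i, rfl⟩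
  have hψX : ∀ i, ψ (X i) ∈ I R n := fun i => by
    have h1 : ψ (X i) = (ψ (X i) - X i) + X i := by ring
    rw [h1]
    exact add_mem (Ideal.pow_le_self two_ne_zero (hψ i)) (hX i)
  have h0 : ∀ f, ψ f - f ∈ I R n := by
    intro f
    have h1 : ψ f - f = ψ (f - C (constantCoeff f)) - (f - C (constantCoeff f)) := by
      rw [map_sub, map_C]; ring
    rw [h1]
    exact sub_mem (map_mem ψ hψX (sub_C_mem f)) (sub_C_mem f)
  have h1 : ∀ f ∈ I R n, ψ f - f ∈ I R n ^ 2 := by
    intro f hf
    refine Submodule.span_induction (p := fun f _ => ψ f - f ∈ I R n ^ 2) ?_ ?_ ?_ ?_ hf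
    · rintro _ ⟨i, rfl⟩
      exact hψ i
    · rw [map_zero, sub_zero]; exact zero_mem _
    · intro x y _ _ hx hy
      rw [map_add, add_sub_add_comm]; exact add_mem hx hy
    · intro a x hx' hx
      have hx'' : x ∈ I R n := hx'
      rw [smul_eq_mul, map_mul]
      have h2 : ψ a * ψ x - a * x = ψ a * (ψ x - x) + (ψ a - a) * x := by ring
      rw [h2]
      refine add_mem (Ideal.mul_mem_left _ _ hx) ?_
      rw [pow_two]
      exact Ideal.mul_mem_mul (h0 a) hx''
  induction k with
  | zero => intro f _; rw [zero_add, pow_one]; exact h0 f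
  | succ k ih =>
    intro f hf
    rw [pow_succ] at hf
    refine Submodule.mul_induction_on (C := fun f => ψ f - f ∈ I R n ^ (k + 1 + 1)) hf ?_ ?_
    · intro g hg x hx
      rw [map_mul]
      have h2 : ψ g * ψ x - g * x = (ψ g - g) * ψ x + g * (ψ x - x) := by ring
      rw [h2]
      refine add_mem ?_ ?_
      · rw [pow_succ]
        exact Ideal.mul_mem_mul (ih g hg) (map_mem ψ hψX hx)
      · rw [show k + 1 + 1 = k + 2 by ring, pow_add]
        exact Ideal.mul_mem_mul hg (h1 x hx)
    · intro x y hx hy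
      rw [map_add, add_sub_add_comm]; exact add_mem hx hy

theorem eq_zero_of_forall_mem (f : MvPowerSeries (Fin n) R) (h : ∀ k, f ∈ I R n ^ k) : f = 0 := by
  ext e
  rw [coeff_zero]
  exact (Groth.Agent.Lefpen.H707.PowIdeal.mem_pow_span_X_iff (R := R) (σ := Fin n) (e.degree + 1) f).mp
    (h _) e (Nat.lt_succ_self _)

theorem bijective_of_unipotent (hψ : ∀ i, ψ (X i) - X i ∈ I R n ^ 2) : Function.Bijective ψ := by
  have hk := map_sub_self_mem_pow ψ hψ
  have hpow : ∀ k, ∀ f ∈ I R n ^ k, ψ f ∈ I R n ^ k := by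
    intro k f hf
    have h1 : ψ f = (ψ f - f) + f := by ring
    rw [h1]
    exact add_mem (Ideal.pow_le_pow_right (Nat.le_succ k) (hk k f hf)) hf
  constructor
  · rw [injective_iff_map_eq_zero]
    intro f hf
    apply eq_zero_of_forall_mem
    intro k
    induction k with
    | zero => simp
    | succ k ih =>
      have h1 := hk k f ih
      rw [hf, zero_sub, neg_mem_iff] at h1
      exact h1
  · intro g
    let s : ℕ → MvPowerSeries (Fin n) R := fun k => Nat.rec 0 (fun _ s => s + (g - ψ s)) k
    have hs : ∀ k, s (k + 1) = s k + (g - ψ (s k)) := fun k => rfl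
    have hr : ∀ k, g - ψ (s k) ∈ I R n ^ k := by
      intro k
      induction k with
      | zero => simp
      | succ k ih =>
        have h1 : g - ψ (s (k + 1)) = -(ψ (g - ψ (s k)) - (g - ψ (s k))) := by
          rw [hs, map_add]; ring
        rw [h1]
        exact neg_mem (hk k _ ih)
    have hcomp : IsAdicComplete (I R n) (MvPowerSeries (Fin n) R) :=
      Groth.Agent.Ega41.PowComplete.isAdicComplete_span_X _ _
    have hmono : ∀ {a b : ℕ}, a ≤ b → s b - s a ∈ I R n ^ a := by
      intro a b hab
      induction b, hab using Nat.le_induction with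
      | base => rw [sub_self]; exact zero_mem _
      | succ b hab ih =>
        have h1 : s (b + 1) - s a = (s b - s a) + (g - ψ (s b)) := by rw [hs]; ring
        rw [h1]
        exact add_mem ih (Ideal.pow_le_pow_right hab (hr b))
    obtain ⟨L, hL⟩ := IsPrecomplete.prec (I := I R n) hcomp.toIsPrecomplete (f := s) (by
      intro a b hab
      rw [SModEq.sub_mem, smul_eq_mul, Ideal.mul_top, ← neg_mem_iff, neg_sub]
      exact hmono hab)
    refine ⟨L, ?_⟩
    rw [← sub_eq_zero]
    apply eq_zero_of_forall_mem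
    intro k
    have h1 := hL k
    rw [SModEq.sub_mem, smul_eq_mul, Ideal.mul_top] at h1
    have h2 : ψ L - g = -(ψ (s k - L) + (g - ψ (s k))) := by rw [map_sub]; ring
    rw [h2]
    exact neg_mem (add_mem (hpow k _ h1) (hr k))

theorem eq_self_of_fix (hψ : ∀ i, ψ (X i) = X i) (f : MvPowerSeries (Fin n) R) : ψ f = f := by
  rw [← sub_eq_zero]
  apply eq_zero_of_forall_mem
  intro k
  induction k generalizing f with
  | zero => simp
  | succ k ih =>
    have h1 : ψ f - f = ψ (f - C (constantCoeff f)) - (f - C (constantCoeff f)) := by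
      rw [map_sub, map_C]; ring
    rw [h1]
    refine Submodule.span_induction (p := fun f _ => ψ f - f ∈ I R n ^ (k + 1)) ?_ ?_ ?_ ?_ (sub_C_mem f)
    · rintro _ ⟨i, rfl⟩
      rw [hψ, sub_self]; exact zero_mem _
    · rw [map_zero, sub_zero]; exact zero_mem _
    · intro x y _ _ hx hy
      rw [map_add, add_sub_add_comm]; exact add_mem hx hy
    · intro a x hx' hx
      have hx'' : x ∈ I R n := hx'
      rw [smul_eq_mul, map_mul]
      have h2 : ψ a * ψ x - a * x = ψ a * (ψ x - x) + (ψ a - a) * x := by ring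
      rw [h2]
      refine add_mem (Ideal.mul_mem_left _ _ hx) ?_
      rw [pow_succ]
      exact Ideal.mul_mem_mul (ih a) hx''

end K78.PowAut
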